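import Cfsg.Agent.H967.ThInv
import Cfsg.Agent.H932.OC.Mk
import Cfsg.Agent.OddOrderCharacters.IndRes

/-!
# S4891, own characteristic, R12 (B2): invariant constituents of a monomial character (helper898)

`hecke` : `lam` a linear character of `P ≤ S`, invariant under the group `A` of automorphisms of `S`; if the double cosets
`P x P` on which `lam` and `lam ^ x` agree are covered by the `A`-orbits of `g 0, …, g (k-1)` and `χ 0, …, χ (k-1)` are different
`A`-invariant constituents of `Ind lam`, then `Ind lam` has no other constituents.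
-/

set_option autoImplicit false

open scoped ComplexConjugate
open Cfsg

namespace Cfsg.Agent.H898.OC

open Cfsg.Agent.Characters Cfsg.Agent.Characters.Core Cfsg.Agent.H967.ThInv

universe u

variable {S : Type u} [Group S] [Fintype S]

/-- orthogonality of the functions `sP` -/
theorem sP_orth (P : Subgroup S) [Fintype P] (σ : P →* ℂˣ) {ψ χ : S → ℂ} (hψ : IsIrrCharacter S ψ)
    (hχ : IsIrrCharacter S χ) (hne : ψ ≠ χ) : ∑ y : S, sP P σ ψ y * conj (sP P σ χ y) = 0 := by
  have h4 : ∀ y : S, sP P σ ψ y * conj (sP P σ χ y) =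
      ∑ t : P, ∑ u : P, (σ t : ℂ) * (σ u : ℂ) * (ψ (t * y) * χ (y⁻¹ * u)) := by
    intro y
    rw [conj_sP P σ (isIrr_isCharacter hχ), sP, Finset.sum_mul_sum]
    refine Finset.sum_congr rfl fun t _ => Finset.sum_congr rfl fun u _ => ?_
    ring
  rw [Finset.sum_congr rfl fun y _ => h4 y, Finset.sum_comm]
  refine Finset.sum_eq_zero fun t _ => ?_
  rw [Finset.sum_comm]
  refine Finset.sum_eq_zero fun u _ => ?_
  rw [← Finset.mul_sum]
  have h5 : ∑ y : S, ψ (t * y) * χ (y⁻¹ * u) = ∑ y : S, ψ y * χ (y⁻¹ * (t * u)) := by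
    refine Fintype.sum_equiv (Equiv.mulLeft (t : S)) _ _ fun y => ?_
    rw [Equiv.coe_mulLeft]
    congr 2
    group
  rw [h5, conv_eq_zero hψ hχ hne, mul_zero]

/-- the functions `f (u y v) = lam u * f y * lam v`, invariant under `A` -/
structure HkF (P : Subgroup S) (lam : P →* ℂˣ) (A : Subgroup (MulAut S)) (f : S → ℂ) : Prop where
  left : ∀ (b : P) (y : S), f (b * y) = (lam b : ℂ) * f y
  right : ∀ (b : P) (y : S), f (y * b) = (lam b : ℂ) * f y
  inv : ∀ a ∈ A, ∀ y : S, f (a y) = f y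

variable {P : Subgroup S} {lam : P →* ℂˣ} {A : Subgroup (MulAut S)}

omit [Fintype S] in
theorem HkF.zero {f : S → ℂ} (hf : HkF P lam A f) {k : ℕ} {g : Fin k → S}
    (hg : ∀ x, (∀ a b : P, (a : S) * x = x * b → lam a = lam b) →
      ∃ i, ∃ a ∈ A, ∃ u ∈ P, ∃ v ∈ P, x = u * a (g i) * v) (h0 : ∀ i, f (g i) = 0) (x : S) : f x = 0 := by
  by_contra hx
  obtain ⟨i, a, ha, u, hu, v, hv, rfl⟩ := hg x (fun a b hab => by
    have h1 := hf.left a x
    rw [hab, hf.right] at h1
    exact Units.ext (mul_right_cancel₀ hx h1).symm)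
  apply hx
  have h1 := hf.right ⟨v, hv⟩ (u * a (g i))
  have h2 := hf.left ⟨u, hu⟩ (a (g i))
  have h3 : f (u * a (g i) * v) = (lam ⟨v, hv⟩ : ℂ) * f (u * a (g i)) := h1
  have h4 : f (u * a (g i)) = (lam ⟨u, hu⟩ : ℂ) * f (a (g i)) := h2
  rw [h3, h4, hf.inv a ha, h0, mul_zero, mul_zero]

omit [Fintype S] in
theorem HkF.lin {k : ℕ} {f : Fin k → S → ℂ} (hf : ∀ i, HkF P lam A (f i)) (c : Fin k → ℂ) :
    HkF P lam A (fun y => ∑ i, c i * f i y) where
  left b y := by
    rw [Finset.mul_sum]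
    refine Finset.sum_congr rfl fun i _ => ?_
    rw [(hf i).left]
    ring
  right b y := by
    rw [Finset.mul_sum]
    refine Finset.sum_congr rfl fun i _ => ?_
    rw [(hf i).right]
    ring
  inv a ha y := Finset.sum_congr rfl fun i _ => by rw [(hf i).inv a ha]

omit [Fintype S] in
theorem HkF.sub {f f' : S → ℂ} (hf : HkF P lam A f) (hf' : HkF P lam A f') : HkF P lam A (fun y => f y - f' y) where
  left b y := by rw [hf.left, hf'.left]; ring
  right b y := by rw [hf.right, hf'.right]; ring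
  inv a ha y := by rw [hf.inv a ha, hf'.inv a ha]

theorem hkF_sP [Fintype P] (hA : ∀ a ∈ A, ∀ x : P, ∃ h : a (x : S) ∈ P, lam ⟨a x, h⟩ = lam x) {χ : S → ℂ}
    (hχ : IsIrrCharacter S χ) (hinv : ∀ a ∈ A, ∀ x, χ (a x) = χ x) : HkF P lam A (sP P lam⁻¹ χ) where
  left b y := by
    rw [sP_left, MonoidHom.inv_apply, Units.val_inv_eq_inv_val, inv_inv]
  right b y := by
    rw [sP_right P _ (isIrr_isClassFunction hχ), MonoidHom.inv_apply, Units.val_inv_eq_inv_val, inv_inv]
  inv a ha y := by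
    choose h1 h2 using hA a ha
    let e : P ≃ P := Equiv.ofBijective (fun t => ⟨a t, h1 t⟩) (by
      rw [← Finite.injective_iff_bijective]
      intro s t hst
      exact Subtype.ext (a.injective (congrArg Subtype.val hst)))
    unfold sP
    refine (Fintype.sum_equiv e _ _ fun t => ?_).symm
    have e1 : (lam⁻¹ : P →* ℂˣ) (e t) = (lam⁻¹ : P →* ℂˣ) t := by
      rw [MonoidHom.inv_apply, MonoidHom.inv_apply]
      exact congrArg _ (h2 t)
    rw [e1]
    change _ = _ * χ (a t * a y)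
    rw [← map_mul, hinv a ha]

open Classical in
/-- the function `lam` on `P`, zero outside -/
noncomputable def ext0 (lam : P →* ℂˣ) (y : S) : ℂ := if h : y ∈ P then (lam ⟨y, h⟩ : ℂ) else 0

omit [Fintype S] in
theorem hkF_ext0 (hA : ∀ a ∈ A, ∀ x : P, ∃ h : a (x : S) ∈ P, lam ⟨a x, h⟩ = lam x) : HkF P lam A (ext0 lam) where
  left b y := by
    unfold ext0
    by_cases h : y ∈ P
    · have h1 : (b : S) * y ∈ P := P.mul_mem b.2 h
      rw [dif_pos h, dif_pos h1, ← Units.val_mul, ← map_mul]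
      rfl
    · have h1 : (b : S) * y ∉ P := fun h1 => h ((P.mul_mem_cancel_left b.2).1 h1)
      rw [dif_neg h, dif_neg h1, mul_zero]
  right b y := by
    unfold ext0
    by_cases h : y ∈ P
    · have h1 : y * (b : S) ∈ P := P.mul_mem h b.2
      rw [dif_pos h, dif_pos h1, mul_comm, ← Units.val_mul, ← map_mul]
      rfl
    · have h1 : y * (b : S) ∉ P := fun h1 => h ((P.mul_mem_cancel_right b.2).1 h1)
      rw [dif_neg h, dif_neg h1, mul_zero]
  inv a ha y := by
    unfold ext0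
    by_cases h : y ∈ P
    · obtain ⟨h1, h2⟩ := hA a ha ⟨y, h⟩
      rw [dif_pos h, dif_pos h1]
      exact congrArg Units.val h2
    · have h1 : a y ∉ P := by
        intro h1
        obtain ⟨h2, -⟩ := hA a⁻¹ (A.inv_mem ha) ⟨a y, h1⟩
        apply h
        have h3 : a⁻¹ (a y) = y := a.symm_apply_apply y
        have h4 : a⁻¹ (a y) ∈ P := h2
        rwa [h3] at h4
      rw [dif_neg h, dif_neg h1]

theorem sP_one_ne [Fintype P] {χ : S → ℂ} (hχ : IsIrrCharacter S χ)
    (hne : classInner (indFun P (fun x => (lam x : ℂ))) χ ≠ 0) : sP P lam⁻¹ χ 1 ≠ 0 := by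
  intro h0
  apply hne
  rw [OddOrderCharacters.IndRes.classInner_indFun_left P _ (isIrr_isClassFunction hχ), classInner_def]
  have h1 : ∑ t : P, (lam t : ℂ) * conj (OddOrderCharacters.IndRes.res P χ t) = conj (sP P lam⁻¹ χ 1) := by
    unfold sP
    rw [map_sum]
    refine Finset.sum_congr rfl fun t _ => ?_
    have h2 : (((lam⁻¹ : P →* ℂˣ) t : ℂˣ) : ℂ) = conj ((lam t : ℂˣ) : ℂ) := by
      rw [← isCharacter_apply_inv (Characters.Linear.isCharacter_hom lam), map_inv, MonoidHom.inv_apply]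
    rw [map_mul, h2, Complex.conj_conj, mul_one]
    rfl
  rw [h1, h0, map_zero, mul_zero]

/-- **(B2)** -/
theorem hecke (P : Subgroup S) (lam : P →* ℂˣ) (A : Subgroup (MulAut S))
    (hA : ∀ a ∈ A, ∀ x : P, ∃ h : a (x : S) ∈ P, lam ⟨a x, h⟩ = lam x) {k : ℕ} (g : Fin k → S)
    (hg : ∀ x, (∀ a b : P, (a : S) * x = x * b → lam a = lam b) →
      ∃ i, ∃ a ∈ A, ∃ u ∈ P, ∃ v ∈ P, x = u * a (g i) * v)
    (χ : Fin k → S → ℂ) (hinj : Function.Injective χ) (hirr : ∀ i, IsIrrCharacter S (χ i))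
    (hinv : ∀ i, ∀ a ∈ A, ∀ x, χ i (a x) = χ i x)
    (hne : ∀ i, classInner (indFun P (fun x => (lam x : ℂ))) (χ i) ≠ 0)
    {ψ : S → ℂ} (hψ : IsIrrCharacter S ψ) (hn : classInner (indFun P (fun x => (lam x : ℂ))) ψ ≠ 0) :
    ∃ i, ψ = χ i := by
  classical
  have := Fintype.ofFinite P
  by_contra hcon
  push Not at hcon
  obtain ⟨f, hf⟩ : ∃ f : Fin k → S → ℂ, ∀ i, f i = sP P lam⁻¹ (χ i) := ⟨_, fun _ => rfl⟩
  have hfH : ∀ i, HkF P lam A (f i) := fun i => by
    rw [hf]
    exact hkF_sP hA (hirr i) (hinv i)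
  -- norms
  have hnorm : ∀ i, ∑ y : S, f i y * conj (f i y) ≠ 0 := by
    intro i h0
    have h1 : ∑ y : S, ((Complex.normSq (f i y) : ℝ) : ℂ) = 0 := by
      rw [← h0]
      exact Finset.sum_congr rfl fun y _ => (Complex.mul_conj _).symm
    have h2 : ∑ y : S, Complex.normSq (f i y) = 0 := by exact_mod_cast h1
    have h3 := (Finset.sum_eq_zero_iff_of_nonneg fun y _ => Complex.normSq_nonneg _).1 h2 1 (Finset.mem_univ _)
    have h4 := Complex.normSq_eq_zero.1 h3
    rw [hf] at h4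
    exact sP_one_ne (hirr i) (hne i) h4
  have horth : ∀ i j, i ≠ j → ∑ y : S, f i y * conj (f j y) = 0 := by
    intro i j hij
    rw [hf, hf]
    exact sP_orth P _ (hirr i) (hirr j) (fun h => hij (hinj h))
  -- the evaluation map
  let T : (Fin k → ℂ) →ₗ[ℂ] (Fin k → ℂ) :=
    { toFun := fun c i => ∑ j, c j * f j (g i)
      map_add' := fun c d => by
        funext i
        simp only [Pi.add_apply, add_mul, Finset.sum_add_distrib]
      map_smul' := fun r c => by
        funext i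
        simp only [Pi.smul_apply, smul_eq_mul, Finset.mul_sum, mul_assoc, RingHom.id_apply] }
  have hT : ∀ c i, T c i = ∑ j, c j * f j (g i) := fun _ _ => rfl
  have hTinj : Function.Injective T := by
    rw [injective_iff_map_eq_zero]
    intro c hc
    have h1 : ∀ y, ∑ j, c j * f j y = 0 := (HkF.lin hfH c).zero hg fun i => by
      change ∑ j, c j * f j (g i) = 0
      rw [← hT, hc]
      rfl
    funext i
    have h2 : ∑ y : S, (∑ j, c j * f j y) * conj (f i y) = 0 :=
      Finset.sum_eq_zero fun y _ => by rw [h1, zero_mul]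
    have h3 : ∑ y : S, (∑ j, c j * f j y) * conj (f i y) = ∑ j, c j * ∑ y : S, f j y * conj (f i y) := by
      simp only [Finset.sum_mul, Finset.mul_sum]
      rw [Finset.sum_comm]
      exact Finset.sum_congr rfl fun j _ => Finset.sum_congr rfl fun y _ => mul_assoc _ _ _
    rw [h3, Finset.sum_eq_single i (fun j _ hj => by rw [horth j i hj, mul_zero])
      (fun h => absurd (Finset.mem_univ i) h)] at h2
    exact (mul_eq_zero.1 h2).resolve_right (hnorm i)
  obtain ⟨c, hc⟩ := (LinearMap.injective_iff_surjective.1 hTinj) (fun i => ext0 lam (g i))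
  have h1 : ∀ y, ext0 lam y = ∑ j, c j * f j y := by
    intro y
    refine sub_eq_zero.1 (((hkF_ext0 hA).sub (HkF.lin hfH c)).zero hg (fun i => ?_) y)
    change ext0 lam (g i) - ∑ j, c j * f j (g i) = 0
    rw [← hT, hc, sub_self]
  -- the inner product with `f_ψ`
  have h2 : ∑ y : S, ext0 lam y * conj (sP P lam⁻¹ ψ y) = 0 := by
    have h3 : ∑ y : S, ext0 lam y * conj (sP P lam⁻¹ ψ y) = ∑ j, c j * ∑ y : S, f j y * conj (sP P lam⁻¹ ψ y) := by
      simp only [h1, Finset.sum_mul, Finset.mul_sum]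
      rw [Finset.sum_comm]
      exact Finset.sum_congr rfl fun j _ => Finset.sum_congr rfl fun y _ => mul_assoc _ _ _
    rw [h3]
    refine Finset.sum_eq_zero fun j _ => ?_
    rw [hf, sP_orth P _ (hirr j) hψ (fun h => hcon j h.symm), mul_zero]
  have h3 : ∀ y : S, ext0 lam y * conj (sP P lam⁻¹ ψ y) =
      ((Complex.normSq (ext0 lam y) : ℝ) : ℂ) * conj (sP P lam⁻¹ ψ 1) := by
    intro y
    by_cases hy : y ∈ P
    · have h4 := sP_left P lam⁻¹ ψ ⟨y, hy⟩ 1
      rw [mul_one, MonoidHom.inv_apply, Units.val_inv_eq_inv_val, inv_inv] at h4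
      have h5 : ext0 lam y = (lam ⟨y, hy⟩ : ℂ) := by
        unfold ext0
        rw [dif_pos hy]
      have h6 : sP P lam⁻¹ ψ y = (lam ⟨y, hy⟩ : ℂ) * sP P lam⁻¹ ψ 1 := h4
      rw [h5, h6, map_mul, ← mul_assoc, Complex.mul_conj]
    · have h5 : ext0 lam y = 0 := by
        unfold ext0
        rw [dif_neg hy]
      rw [h5, map_zero, zero_mul, Complex.ofReal_zero, zero_mul]
  rw [Finset.sum_congr rfl fun y _ => h3 y, ← Finset.sum_mul] at h2
  rcases mul_eq_zero.1 h2 with h4 | h4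
  · have h5 : ∑ y : S, Complex.normSq (ext0 lam y) = 0 := by exact_mod_cast h4
    have h6 := (Finset.sum_eq_zero_iff_of_nonneg fun y _ => Complex.normSq_nonneg _).1 h5 1 (Finset.mem_univ _)
    have h7 := Complex.normSq_eq_zero.1 h6
    unfold ext0 at h7
    rw [dif_pos P.one_mem] at h7
    exact Units.ne_zero _ h7
  · exact sP_one_ne hψ hn ((map_eq_zero _).1 h4)

/-- the version with `Ag` -/
theorem hecke' (P : Subgroup S) (lam : P →* ℂˣ) (A : Subgroup (MulAut S))
    (hA : ∀ a ∈ A, ∀ x : P, ∃ h : a (x : S) ∈ P, lam ⟨a x, h⟩ = lam x) {k : ℕ} (g : Fin k → S)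
    (hg : ∀ x, H932.OC.Ag P P lam lam x → ∃ i, ∃ a ∈ A, ∃ u ∈ P, ∃ v ∈ P, x = u * a (g i) * v)
    (χ : Fin k → S → ℂ) (hinj : Function.Injective χ) (hirr : ∀ i, IsIrrCharacter S (χ i))
    (hinv : ∀ i, ∀ a ∈ A, ∀ x, χ i (a x) = χ i x)
    (hne : ∀ i, classInner (indFun P (fun x => (lam x : ℂ))) (χ i) ≠ 0)
    {ψ : S → ℂ} (hψ : IsIrrCharacter S ψ) (hn : classInner (indFun P (fun x => (lam x : ℂ))) ψ ≠ 0) :
    ∃ i, ψ = χ i :=
  hecke P lam A hA g (fun x hx => hg x fun t ht => hx t ⟨x⁻¹ * t * x, ht⟩ (by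
    change (t : S) * x = x * (x⁻¹ * t * x)
    group)) χ hinj hirr hinv hne hψ hn

end Cfsg.Agent.H898.OC
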